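import Cfsg.Agent.H376.ExcTab
import Mathlib
import Cfsg.Agent.H77.E4Poly_m3
import Cfsg.Agent.H168.ExcCover
import Cfsg.Agent.H168.ExcE8_m3
import Cfsg.Agent.H168.TwF4Cover
import Cfsg.Agent.H341.ThreeList_m3
import Cfsg.Agent.Prune
set_option linter.all false
prune_inst 0x7f00000000000000000000000000000000000000000000000000000000000000000000000000000000000000000000000000000000000000000000000000000000000000000000000000000000000000003fffffffffffffffffffffffffffbeffbdffffffff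
open scoped Cfsg.Agent.FastGrp

-- part: H420/Tab3
section
/-!
# Tables over three: the primes of `3 ^ k - 1` and witnesses (helper420)

`ok` : a set of exponents `k < B`. `chkT ok B degs ex ws` : every prime divisor of `3 ^ k - 1`, `ok k`, is in `ex` or is the
first component of a witness `(p, x, j)` in `ws`: `x ≥ 5` is a prime dividing `p ^ j - 1`, `j ∈ degs`, and dividing no
`3 ^ k - 1` with `ok k`.
-/

set_option autoImplicit false

namespace Cfsg.Agent.H420.Tab3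

open Cfsg.Agent.H414.Arith

/-- the factorizations of `3 ^ k - 1`, `k ≤ 19` or `k` even and `k ≤ 38` -/
def fs : List (ℕ × List (ℕ × ℕ)) :=
  [(1, [(2, 1)]), (2, [(2, 3)]), (3, [(2, 1), (13, 1)]), (4, [(2, 4), (5, 1)]), (5, [(2, 1), (11, 2)]), (6, [(2, 3), (7,
   1), (13, 1)]), (7, [(2, 1), (1093, 1)]), (8, [(2, 5), (5, 1), (41, 1)]), (9, [(2, 1), (13, 1), (757, 1)]), (10,
   [(2, 3), (11, 2), (61, 1)]), (11, [(2, 1), (23, 1), (3851, 1)]), (12, [(2, 4), (5, 1), (7, 1), (13, 1), (73, 1)]),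
   (13, [(2, 1), (797161, 1)]), (14, [(2, 3), (547, 1), (1093, 1)]), (15, [(2, 1), (11, 2), (13, 1), (4561, 1)]), (16,
   [(2, 6), (5, 1), (17, 1), (41, 1), (193, 1)]), (17, [(2, 1), (1871, 1), (34511, 1)]), (18, [(2, 3), (7, 1), (13,
   1), (19, 1), (37, 1), (757, 1)]), (19, [(2, 1), (1597, 1), (363889, 1)]), (20, [(2, 4), (5, 2), (11, 2), (61, 1),
   (1181, 1)]), (22, [(2, 3), (23, 1), (67, 1), (661, 1), (3851, 1)]), (24, [(2, 5), (5, 1), (7, 1), (13, 1), (41, 1),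
   (73, 1), (6481, 1)]), (26, [(2, 3), (398581, 1), (797161, 1)]), (28, [(2, 4), (5, 1), (29, 1), (547, 1), (1093, 1),
   (16493, 1)]), (30, [(2, 3), (7, 1), (11, 2), (13, 1), (31, 1), (61, 1), (271, 1), (4561, 1)]), (32, [(2, 7), (5,
   1), (17, 1), (41, 1), (193, 1), (21523361, 1)]), (34, [(2, 3), (103, 1), (307, 1), (1021, 1), (1871, 1), (34511,
   1)]), (36, [(2, 4), (5, 1), (7, 1), (13, 1), (19, 1), (37, 1), (73, 1), (757, 1), (530713, 1)]), (38, [(2, 3),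
   (1597, 1), (2851, 1), (101917, 1), (363889, 1)])]

/-- certificates of primality -/
def ch : List (ℕ × ℕ × List (ℕ × ℕ)) :=
  [(4561, 11, [(2, 4), (3, 1), (5, 1), (19, 1)]), (6481, 7, [(2, 4), (3, 4), (5, 1)]), (16493, 2, [(2, 2), (7, 1), (19,
   1), (31, 1)]), (34511, 7, [(2, 1), (5, 1), (7, 1), (17, 1), (29, 1)]), (101917, 5, [(2, 2), (3, 2), (19, 1), (149,
   1)]), (363889, 13, [(2, 4), (3, 2), (7, 1), (19, 2)]), (398581, 2, [(2, 2), (3, 1), (5, 1), (7, 1), (13, 1), (73,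
   1)]), (530713, 5, [(2, 3), (3, 6), (7, 1), (13, 1)]), (797161, 17, [(2, 3), (3, 1), (5, 1), (7, 1), (13, 1), (73,
   1)]), (21523361, 6, [(2, 5), (5, 1), (17, 1), (41, 1), (193, 1)])]

theorem fs_ok : (fs.all fun x => Nat.beq (prodl x.2 + 1) (3 ^ x.1) && x.2.all fun y => isP ch y.1) = true := by
  decide +kernel

theorem ch_ok : chainB [] ch = true := by decide +kernel

/-- a witness -/
def wOk (ok : ℕ → Bool) (B : ℕ) (degs : List ℕ) (w : ℕ × ℕ × ℕ) : Bool :=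
  (trialPr w.2.1 && Nat.ble 5 w.2.1) && (degs.any (Nat.beq w.2.2) &&
    Nat.beq (pe w.2.1 w.1 w.2.2) 1 && (List.range B).all fun k => !(ok k) || !(Nat.beq (pe w.2.1 3 k) 1))

def chkT (ok : ℕ → Bool) (B : ℕ) (degs ex : List ℕ) (ws : List (ℕ × ℕ × ℕ)) : Bool :=
  ((List.range B).all fun k => !(ok k) || fs.any fun x => Nat.beq x.1 k) &&
    (fs.all fun x => !(ok x.1) || x.2.all fun y => (ex ++ ws.map fun w => w.1).any (Nat.beq y.1)) &&
    ws.all (wOk ok B degs)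

theorem dvd_of_pe {m b e : ℕ} (h : Nat.beq (pe m b e) 1 = true) : m ∣ b ^ e - 1 := by
  rw [Nat.beq_eq, pe_eq] at h
  have h1 := Nat.div_add_mod (b ^ e) m
  rw [h] at h1
  exact ⟨b ^ e / m, by omega⟩

theorem not_dvd_of_pe {m b e : ℕ} (hb : 1 ≤ b) (hm : 1 < m) (h : (!(Nat.beq (pe m b e) 1)) = true) : ¬ m ∣ b ^ e - 1 := by
  intro hd
  have h1 : 1 ≤ b ^ e := Nat.one_le_pow _ _ hb
  have h2 : b ^ e % m = 1 := by
    have h3 := (Nat.modEq_iff_dvd' h1).2 hd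
    have h4 : b ^ e % m = 1 % m := h3.symm
    rw [h4, Nat.mod_eq_of_lt hm]
  have h3 : Nat.beq (pe m b e) 1 = true := by rw [Nat.beq_eq, pe_eq, h2]
  rw [h3] at h
  exact absurd h (by decide)

theorem mem_of_dvd {ok : ℕ → Bool} {B : ℕ} {degs ex : List ℕ} {ws : List (ℕ × ℕ × ℕ)}
    (h : chkT ok B degs ex ws = true) {p k : ℕ} (hp : p.Prime) (hk : k < B) (hok : ok k = true) (hd : p ∣ 3 ^ k - 1) :
    p ∈ ex ++ ws.map fun w => w.1 := by
  unfold chkT at h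
  rw [Bool.and_eq_true, Bool.and_eq_true, List.all_eq_true, List.all_eq_true] at h
  obtain ⟨⟨h1, h2⟩, -⟩ := h
  have h3 := h1 k (List.mem_range.2 hk)
  rw [hok, Bool.not_true, Bool.false_or, List.any_eq_true] at h3
  obtain ⟨x, hx, hxk⟩ := h3
  rw [Nat.beq_eq] at hxk
  subst hxk
  have h4 := List.all_eq_true.1 fs_ok x hx
  rw [Bool.and_eq_true, Nat.beq_eq, List.all_eq_true] at h4
  obtain ⟨h5, h6⟩ := h4
  rw [← h5, Nat.add_sub_cancel] at hd
  obtain ⟨y, hy, hyp⟩ := mem_of_dvd_prodl hp (fun y hy => prime_of_isP ch_ok (h6 y hy)) hd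
  have h7 := h2 x hx
  rw [hok, Bool.not_true, Bool.false_or, List.all_eq_true] at h7
  have h8 := any_beq (h7 y hy)
  rwa [hyp] at h8

/-- **The table.** -/
theorem chkT_spec {ok : ℕ → Bool} {B : ℕ} {degs ex : List ℕ} {ws : List (ℕ × ℕ × ℕ)}
    (h : chkT ok B degs ex ws = true) {p k : ℕ} (hp : p.Prime) (hk : k < B) (hok : ok k = true) (hd : p ∣ 3 ^ k - 1) :
    p ∈ ex ∨ ∃ x j, x.Prime ∧ 5 ≤ x ∧ j ∈ degs ∧ x ∣ p ^ j - 1 ∧ ∀ k, k < B → ok k = true → ¬ x ∣ 3 ^ k - 1 := by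
  rcases List.mem_append.1 (mem_of_dvd h hp hk hok hd) with h6 | h6
  · exact Or.inl h6
  · right
    obtain ⟨w, hw, rfl⟩ := List.mem_map.1 h6
    unfold chkT at h
    rw [Bool.and_eq_true, List.all_eq_true] at h
    have h7 := h.2 w hw
    unfold wOk at h7
    rw [Bool.and_eq_true, Bool.and_eq_true, Bool.and_eq_true, Bool.and_eq_true, List.all_eq_true] at h7
    obtain ⟨⟨a1, a2⟩, ⟨a4, a5⟩, a6⟩ := h7
    have hx := prime_of_trialPr a1
    refine ⟨w.2.1, w.2.2, hx, Nat.le_of_ble_eq_true a2, any_beq a4, dvd_of_pe a5, fun k hk1 hk2 => ?_⟩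
    have h8 := a6 k (List.mem_range.2 hk1)
    rw [hk2, Bool.not_true, Bool.false_or] at h8
    exact not_dvd_of_pe (by norm_num) hx.one_lt h8

end Cfsg.Agent.H420.Tab3
end

-- part: H420/ExcStep
section
/-!
# Exceptional groups whose primes divide `3 ^ k - 1` for few `k` (helper420)

`PiT S ok B` : every prime `r ≠ 3` of `|S|` divides `3 ^ k - 1` for some `k < B` with `ok k`. With a table `chkT` this
forces the characteristic 3 for every family of exceptional groups (`exc_g2`, …, `exc_e8`); `cov_*` : the covers.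
-/

set_option autoImplicit false

namespace Cfsg.Agent.H420.QR

open Cfsg Cfsg.Agent.H420.Tab3 Cfsg.Agent.H436

variable {S : Type*} [Group S]

/-- the primes of `S`, other than three, divide `3 ^ k - 1` with `ok k` -/
def PiT (S : Type*) [Group S] (ok : ℕ → Bool) (B : ℕ) : Prop :=
  ∀ r : ℕ, r.Prime → r ∣ Nat.card S → r ≠ 3 → ∃ k, k < B ∧ ok k = true ∧ r ∣ 3 ^ k - 1

variable {ok : ℕ → Bool} {B : ℕ}

/-- **The elimination with a table.** -/
theorem false_of_chkT (h : PiT S ok B) {p f d M : ℕ} (hp : p.Prime) (hp3 : p ≠ 3) (hd : d ∣ 12)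
    (hdp : ¬ p ∣ d) (heq : d * Nat.card S = M) (hpM : p ∣ M) {degs ex : List ℕ} {ws : List (ℕ × ℕ × ℕ)}
    (hc : chkT ok B degs ex ws = true) (hex : p ∉ ex) (hdeg : ∀ j ∈ degs, (p ^ f) ^ j - 1 ∣ M) : False := by
  have hpS : p ∣ Nat.card S := by
    rw [← heq] at hpM
    exact (hp.dvd_mul.1 hpM).resolve_left hdp
  obtain ⟨k, hk1, hk2, hk⟩ := h p hp hpS hp3
  rcases chkT_spec hc hp hk1 hk2 hk with h1 | ⟨x, j, hx, hx5, hj, hxj, hxk⟩
  · exact hex h1
  · have h2 : x ∣ M := by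
      refine dvd_trans ?_ (hdeg j hj)
      refine dvd_trans hxj ?_
      rw [← pow_mul, mul_comm f j, pow_mul]
      have h3 := Nat.sub_dvd_pow_sub_pow (p ^ j) 1 f
      rwa [one_pow] at h3
    have h3 : x ∣ Nat.card S := by
      rw [← heq] at h2
      refine (hx.dvd_mul.1 h2).resolve_left fun h4 => ?_
      have h5 : x ∣ 2 ^ 2 * 3 := h4.trans hd
      rcases hx.dvd_mul.1 h5 with h6 | h6
      · have := (Nat.prime_dvd_prime_iff_eq hx Nat.prime_two).1 (hx.dvd_of_dvd_pow h6)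
        omega
      · have := (Nat.prime_dvd_prime_iff_eq hx Nat.prime_three).1 h6
        omega
    obtain ⟨k', h4, h5, h6⟩ := h x hx h3 (by omega)
    exact hxk k' h4 h5 h6

/-- the final step for the untwisted names -/
theorem exc_step (h : PiT S ok B) {u d M a R : ℕ} (hu : IsPrimePow u)
    (hd : d ∣ 12) (hdu : ∀ p : ℕ, p.Prime → p ∣ u → ¬ p ∣ d) (heq : d * Nat.card S = M) (hM : M = u ^ a * R)
    (ha : a ≠ 0) {degs : List ℕ} (hdeg : ∀ j ∈ degs, u ^ j - 1 ∣ M)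
    (hchk : ∀ p f : ℕ, p.Prime → u = p ^ f → p ≠ 3 → ∃ (ex : List ℕ) (ws : List (ℕ × ℕ × ℕ)),
      chkT ok B degs ex ws = true ∧ p ∉ ex) : ∃ f : ℕ, f ≠ 0 ∧ u = 3 ^ f := by
  obtain ⟨p, f, hp, hf, rfl⟩ := hu
  have hpn := hp.nat_prime
  by_cases hpq : p = 3
  · exact ⟨f, hf.ne', by rw [hpq]⟩
  · exfalso
    have hpu : p ∣ p ^ f := dvd_pow_self p hf.ne'
    obtain ⟨ex, ws, h2, h3⟩ := hchk p f hpn rfl hpq
    refine false_of_chkT h hpn hpq hd (hdu p hpn hpu) heq ?_ h2 h3 hdeg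
    rw [hM, ← pow_mul]
    exact (dvd_pow_self p (Nat.mul_ne_zero hf.ne' ha)).mul_right _

theorem not_dvd_gcd_sub {u p n : ℕ} (hu : 1 ≤ u) (hp : p.Prime) (h : p ∣ u) : ¬ p ∣ Nat.gcd n (u - 1) := by
  intro h1
  have h2 := h1.trans (Nat.gcd_dvd_right _ _)
  have h3 : p ∣ 1 := by
    have := Nat.dvd_sub h h2
    rwa [Nat.sub_sub_self hu] at this
  exact hp.one_lt.ne' (Nat.dvd_one.1 h3)

theorem not_dvd_gcd_add {u p n : ℕ} (hp : p.Prime) (h : p ∣ u) : ¬ p ∣ Nat.gcd n (u + 1) := by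
  intro h1
  have h2 := h1.trans (Nat.gcd_dvd_right _ _)
  have h3 : p ∣ 1 := (Nat.dvd_add_right h).1 h2
  exact hp.one_lt.ne' (Nat.dvd_one.1 h3)

/-! ### covers -/

theorem cov_g2 {u : ℕ} (hg : IsNamed (.g2 u) S) : Cover S u 3 := by
  obtain ⟨E, _, _, hE, ⟨e⟩⟩ := hg.real
  exact hE ▸ Cover.congr e H168.ExcCover.g2_cover

theorem cov_td4 {u : ℕ} (hg : IsNamed (.td4 u) S) : Cover S u 3 := by
  obtain ⟨E, _, _, hE, ⟨e⟩⟩ := hg.real
  exact Cover.congr e (H168.TwCover.td4_cover hE hg.cond)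

theorem cov_f4 {u : ℕ} (hg : IsNamed (.f4 u) S) : Cover S u 5 := by
  obtain ⟨E, _, _, hE, ⟨e⟩⟩ := hg.real
  exact hE ▸ Cover.congr e H168.ExcCover.f4_cover

theorem cov_e6 {u : ℕ} (hg : IsNamed (.e6 u) S) : Cover S u 5 := by
  obtain ⟨E, _, _, hE, ⟨e⟩⟩ := hg.real
  exact hE ▸ Cover.congr e H168.ExcCover.e6_cover

theorem cov_te6 {u : ℕ} (hg : IsNamed (.te6 u) S) : Cover S u 5 := by
  obtain ⟨E, _, _, hE, ⟨e⟩⟩ := hg.real
  exact Cover.congr e (H168.TwCover.te6_cover hE hg.cond)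

theorem cov_e7 {u : ℕ} (hg : IsNamed (.e7 u) S) : Cover S u 8 := by
  obtain ⟨E, _, _, hE, ⟨e⟩⟩ := hg.real
  exact hE ▸ Cover.congr e H168.ExcCover.e7_cover

theorem cov_e8 {u : ℕ} (hg : IsNamed (.e8 u) S) : Cover S u 12 := by
  obtain ⟨E, _, _, hE, ⟨e⟩⟩ := hg.real
  exact hE ▸ Cover.congr e H168.ExcCover.e8_cover

theorem cov_sz {u : ℕ} (hg : IsNamed (.sz u) S) : Cover S (2 ^ 1) 3 := by
  obtain ⟨E, i1, i2, m, hm, hE, hu, ⟨e⟩⟩ := hg.real
  exact H168.TwF4Cover.cover_suzuki ⟨E, i1, i2, m, hm, hE.trans hu, ⟨e⟩⟩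

theorem cov_ree {u : ℕ} (hg : IsNamed (.ree u) S) : Cover S (3 ^ 1) 4 := by
  obtain ⟨E, i1, i2, m, hm, hE, hu, ⟨e⟩⟩ := hg.real
  exact Cover.congr e (H168.TwF4Cover.ree_cover hm (hE.trans hu))

theorem cov_tf4 {u : ℕ} (hg : IsNamed (.tf4 u) S) : Cover S (2 ^ 1) 5 := by
  obtain ⟨E, i1, i2, m, hm, hE, hu, ⟨e⟩⟩ := hg.real
  exact Cover.congr e (H168.TwF4Cover.tf4_cover (hE.trans hu))

theorem ree_three {u : ℕ} (hg : IsNamed (.ree u) S) : ∃ f : ℕ, f ≠ 0 ∧ u = 3 ^ f := by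
  obtain ⟨E, i1, i2, m, hm, hE, hu, ⟨e⟩⟩ := hg.real
  exact ⟨2 * m + 1, by omega, hu⟩

/-! ### the families -/

def dg6 : List ℕ := [2, 6, 8, 12]
def dg7 : List ℕ := [2, 6, 8, 10, 12, 14, 18]
def dg8 : List ℕ := [2, 8, 12, 14, 18, 20, 24, 30]

/-- **`F₄(u)`** -/
theorem exc_f4 (h : PiT S ok B) {u : ℕ} (hg : IsNamed (.f4 u) S)
    (hchk : ∀ p f : ℕ, p.Prime → u = p ^ f → p ≠ 3 → ∃ (ex : List ℕ) (ws : List (ℕ × ℕ × ℕ)),
      chkT ok B dg6 ex ws = true ∧ p ∉ ex) : ∃ f : ℕ, f ≠ 0 ∧ u = 3 ^ f := by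
  have hu : IsPrimePow u := hg.cond
  have heq : 1 * Nat.card S = u ^ 24 * ((u ^ 2 - 1) * (u ^ 6 - 1) * (u ^ 8 - 1) * (u ^ 12 - 1)) := hg.eq
  refine exc_step h hu (by norm_num) (fun p hp _ h => hp.one_lt.ne' (Nat.dvd_one.1 h)) heq rfl (by norm_num)
    (degs := dg6) (fun j hj => ?_) hchk
  simp only [dg6, List.mem_cons, List.not_mem_nil, or_false] at hj
  rcases hj with rfl | rfl | rfl | rfl
  · exact (((dvd_mul_right _ _).mul_right _).mul_right _).mul_left _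
  · exact (((dvd_mul_left _ _).mul_right _).mul_right _).mul_left _
  · exact ((dvd_mul_left _ _).mul_right _).mul_left _
  · exact (dvd_mul_left _ _).mul_left _

/-- **`E₆(u)`** -/
theorem exc_e6 (h : PiT S ok B) {u : ℕ} (hg : IsNamed (.e6 u) S)
    (hchk : ∀ p f : ℕ, p.Prime → u = p ^ f → p ≠ 3 → ∃ (ex : List ℕ) (ws : List (ℕ × ℕ × ℕ)),
      chkT ok B dg6 ex ws = true ∧ p ∉ ex) : ∃ f : ℕ, f ≠ 0 ∧ u = 3 ^ f := by
  have hu : IsPrimePow u := hg.cond
  have heq : Nat.gcd 3 (u - 1) * Nat.card S = u ^ 36 * ((u ^ 2 - 1) * (u ^ 5 - 1) * (u ^ 6 - 1) * (u ^ 8 - 1) *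
    (u ^ 9 - 1) * (u ^ 12 - 1)) := hg.eq
  refine exc_step h hu ((Nat.gcd_dvd_left _ _).trans (by norm_num))
    (fun p hp h => not_dvd_gcd_sub (le_of_lt hu.one_lt) hp h) heq rfl (by norm_num)
    (degs := dg6) (fun j hj => ?_) hchk
  simp only [dg6, List.mem_cons, List.not_mem_nil, or_false] at hj
  rcases hj with rfl | rfl | rfl | rfl
  · exact (((((dvd_mul_right _ _).mul_right _).mul_right _).mul_right _).mul_right _).mul_left _
  · exact ((((dvd_mul_left _ _).mul_right _).mul_right _).mul_right _).mul_left _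
  · exact (((dvd_mul_left _ _).mul_right _).mul_right _).mul_left _
  · exact (dvd_mul_left _ _).mul_left _

/-- **`²E₆(u)`** -/
theorem exc_te6 (h : PiT S ok B) {u : ℕ} (hg : IsNamed (.te6 u) S)
    (hchk : ∀ p f : ℕ, p.Prime → u = p ^ f → p ≠ 3 → ∃ (ex : List ℕ) (ws : List (ℕ × ℕ × ℕ)),
      chkT ok B dg6 ex ws = true ∧ p ∉ ex) : ∃ f : ℕ, f ≠ 0 ∧ u = 3 ^ f := by
  have hu : IsPrimePow u := hg.cond
  have heq : Nat.gcd 3 (u + 1) * Nat.card S = u ^ 36 * ((u ^ 2 - 1) * (u ^ 5 + 1) * (u ^ 6 - 1) * (u ^ 8 - 1) *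
    (u ^ 9 + 1) * (u ^ 12 - 1)) := hg.eq
  refine exc_step h hu ((Nat.gcd_dvd_left _ _).trans (by norm_num))
    (fun p hp h => not_dvd_gcd_add hp h) heq rfl (by norm_num)
    (degs := dg6) (fun j hj => ?_) hchk
  simp only [dg6, List.mem_cons, List.not_mem_nil, or_false] at hj
  rcases hj with rfl | rfl | rfl | rfl
  · exact (((((dvd_mul_right _ _).mul_right _).mul_right _).mul_right _).mul_right _).mul_left _
  · exact ((((dvd_mul_left _ _).mul_right _).mul_right _).mul_right _).mul_left _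
  · exact (((dvd_mul_left _ _).mul_right _).mul_right _).mul_left _
  · exact (dvd_mul_left _ _).mul_left _

/-- **`E₇(u)`** -/
theorem exc_e7 (h : PiT S ok B) {u : ℕ} (hg : IsNamed (.e7 u) S)
    (hchk : ∀ p f : ℕ, p.Prime → u = p ^ f → p ≠ 3 → ∃ (ex : List ℕ) (ws : List (ℕ × ℕ × ℕ)),
      chkT ok B dg7 ex ws = true ∧ p ∉ ex) : ∃ f : ℕ, f ≠ 0 ∧ u = 3 ^ f := by
  have hu : IsPrimePow u := hg.cond
  have heq : Nat.gcd 2 (u - 1) * Nat.card S = u ^ 63 * ((u ^ 2 - 1) * (u ^ 6 - 1) * (u ^ 8 - 1) * (u ^ 10 - 1) *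
    (u ^ 12 - 1) * (u ^ 14 - 1) * (u ^ 18 - 1)) := hg.eq
  refine exc_step h hu ((Nat.gcd_dvd_left _ _).trans (by norm_num))
    (fun p hp h => not_dvd_gcd_sub (le_of_lt hu.one_lt) hp h) heq rfl (by norm_num)
    (degs := dg7) (fun j hj => ?_) hchk
  simp only [dg7, List.mem_cons, List.not_mem_nil, or_false] at hj
  rcases hj with rfl | rfl | rfl | rfl | rfl | rfl | rfl
  · exact ((((((dvd_mul_right _ _).mul_right _).mul_right _).mul_right _).mul_right _).mul_right _).mul_left _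
  · exact ((((((dvd_mul_left _ _).mul_right _).mul_right _).mul_right _).mul_right _).mul_right _).mul_left _
  · exact (((((dvd_mul_left _ _).mul_right _).mul_right _).mul_right _).mul_right _).mul_left _
  · exact ((((dvd_mul_left _ _).mul_right _).mul_right _).mul_right _).mul_left _
  · exact (((dvd_mul_left _ _).mul_right _).mul_right _).mul_left _
  · exact ((dvd_mul_left _ _).mul_right _).mul_left _
  · exact (dvd_mul_left _ _).mul_left _

/-- **`E₈(u)`** -/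
theorem exc_e8 (h : PiT S ok B) {u : ℕ} (hg : IsNamed (.e8 u) S)
    (hchk : ∀ p f : ℕ, p.Prime → u = p ^ f → p ≠ 3 → ∃ (ex : List ℕ) (ws : List (ℕ × ℕ × ℕ)),
      chkT ok B dg8 ex ws = true ∧ p ∉ ex) : ∃ f : ℕ, f ≠ 0 ∧ u = 3 ^ f := by
  have hu : IsPrimePow u := hg.cond
  have heq : 1 * Nat.card S = u ^ 120 * ((u ^ 2 - 1) * (u ^ 8 - 1) * (u ^ 12 - 1) * (u ^ 14 - 1) * (u ^ 18 - 1) *
    (u ^ 20 - 1) * (u ^ 24 - 1) * (u ^ 30 - 1)) := hg.eq
  refine exc_step h hu (by norm_num) (fun p hp _ h => hp.one_lt.ne' (Nat.dvd_one.1 h)) heq rfl (by norm_num)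
    (degs := dg8) (fun j hj => ?_) hchk
  simp only [dg8, List.mem_cons, List.not_mem_nil, or_false] at hj
  rcases hj with rfl | rfl | rfl | rfl | rfl | rfl | rfl | rfl
  · exact (((((((dvd_mul_right _ _).mul_right _).mul_right _).mul_right _).mul_right _).mul_right
      _).mul_right _).mul_left _
  · exact (((((((dvd_mul_left _ _).mul_right _).mul_right _).mul_right _).mul_right _).mul_right
      _).mul_right _).mul_left _
  · exact ((((((dvd_mul_left _ _).mul_right _).mul_right _).mul_right _).mul_right _).mul_right _).mul_left _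
  · exact (((((dvd_mul_left _ _).mul_right _).mul_right _).mul_right _).mul_right _).mul_left _
  · exact ((((dvd_mul_left _ _).mul_right _).mul_right _).mul_right _).mul_left _
  · exact (((dvd_mul_left _ _).mul_right _).mul_right _).mul_left _
  · exact ((dvd_mul_left _ _).mul_right _).mul_left _
  · exact (dvd_mul_left _ _).mul_left _

end Cfsg.Agent.H420.QR
end

private theorem dce_5792ebbfbdf3 : _root_.True := by
  try have : _root_.True := by simp only [_root_.Cfsg.Agent.H420.QR.dg6.eq_1]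
  try have : _root_.True := by simp only [_root_.Cfsg.Agent.H420.QR.dg8.eq_1]
  try have : _root_.True := by simp only [_root_.Cfsg.Agent.H420.QR.dg7.eq_1]
  exact _root_.True.intro
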